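import Mathlib

/-!
# Zeros of non-degenerate quadratic forms over finite fields
-/

set_option autoImplicit false
set_option linter.style.haveILetI false

universe u v

open Module QuadraticMap

namespace Groth.Agent.H23Quad

variable {k : Type u} [Field k] [Finite k] {V : Type v} [AddCommGroup V] [Module k V] [FiniteDimensional k V]
variable (Q : QuadraticMap k V k)

/-- No singular zero except the origin. -/
def Nondeg : Prop := ∀ v, (∀ w, polar Q v w = 0) → Q v = 0 → v = 0

/-- The number of zeros. -/
noncomputable def numZeros : ℕ := Nat.card {v : V // Q v = 0}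

/-- An isotropic subspace of dimension `r`. -/
def Split (r : ℕ) : Prop := ∃ U : Submodule k V, finrank k U = r ∧ ∀ u ∈ U, Q u = 0

/-- The linear form of a vector. -/
noncomputable abbrev pol (v : V) : V →ₗ[k] k := polarBilin Q v

variable {Q}

theorem eq_zero_of_unique (h : ∀ v, Q v = 0 → v = 0) : numZeros Q = 1 :=
  Nat.card_eq_one_iff_unique.2 ⟨⟨fun a b => Subtype.ext ((h _ a.2).trans (h _ b.2).symm)⟩, ⟨⟨0, map_zero Q⟩⟩⟩

theorem Nondeg.eq_zero_of_finrank_le_one (hQ : Nondeg Q) (hd : finrank k V ≤ 1) (v : V) (hv : Q v = 0) :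
    v = 0 := by
  by_contra hne
  refine hne (hQ v (fun w => ?_) hv)
  have h1 : finrank k V = 1 := by
    have : 0 < finrank k V := finrank_pos_iff_exists_ne_zero.2 ⟨v, hne⟩
    omega
  obtain ⟨c, rfl⟩ := (finrank_eq_one_iff_of_nonzero' v hne).1 h1 w
  rw [polar_smul_right, polar_self, hv, smul_zero, smul_zero]

theorem exists_isotropic (hd : 3 ≤ finrank k V) : ∃ e : V, e ≠ 0 ∧ Q e = 0 := by
  classical
  haveI := Fintype.ofFinite k
  obtain ⟨v, hv⟩ : ∃ v : V, v ≠ 0 := (finrank_pos_iff_exists_ne_zero (R := k)).1 (by omega)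
  by_cases hv0 : Q v = 0
  · exact ⟨v, hv, hv0⟩
  have hker : finrank k V ≤ finrank k (pol Q v).ker + 1 := by
    have h1 := (pol Q v).finrank_range_add_finrank_ker
    have h2 : finrank k (LinearMap.range (pol Q v)) ≤ 1 :=
      (Submodule.finrank_le _).trans (by rw [finrank_self])
    omega
  by_cases h2 : (2 : k) = 0
  · obtain ⟨w, hw, hwv⟩ : ∃ w ∈ (pol Q v).ker, w ∉ Submodule.span k {v} := by
      refine SetLike.not_le_iff_exists.1 fun hle => ?_
      have := Submodule.finrank_mono hle
      rw [finrank_span_singleton hv] at this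
      omega
    obtain ⟨a, ha⟩ := FiniteField.isSquare_of_char_two (F := k)
      (ringChar.eq_iff.2 ((CharP.charP_iff_prime_eq_zero Nat.prime_two).2 (by exact_mod_cast h2))) (Q w / Q v)
    refine ⟨a • v + w, fun h0 => hwv (Submodule.mem_span_singleton.2 ⟨-a, ?_⟩), ?_⟩
    · rw [neg_smul]
      exact (eq_neg_of_add_eq_zero_right h0).symm
    · have hp : polar Q v w = 0 := hw
      rw [QuadraticMap.map_add (⇑Q), QuadraticMap.map_smul Q, polar_smul_left, hp, smul_zero, add_zero, smul_eq_mul, ← ha,
        div_mul_cancel₀ _ hv0]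
      linear_combination (Q w) * h2
  · have hvv : ∀ u : V, Q u ≠ 0 → polar Q u u ≠ 0 := fun u hu => by
      rw [polar_self, nsmul_eq_mul, Nat.cast_ofNat]
      exact mul_ne_zero h2 hu
    obtain ⟨w, hw, hw0⟩ : ∃ w ∈ (pol Q v).ker, w ≠ 0 := by
      refine (Submodule.ne_bot_iff _).1 fun h0 => ?_
      rw [h0, finrank_bot] at hker
      omega
    by_cases hQw : Q w = 0
    · exact ⟨w, hw0, hQw⟩
    obtain ⟨x, ⟨hxv, hxw⟩, hx0⟩ : ∃ x ∈ (pol Q v).ker ⊓ (pol Q w).ker, x ≠ 0 := by
      refine (Submodule.ne_bot_iff _).1 fun h0 => ?_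
      have h1 := Submodule.finrank_sup_add_finrank_inf_eq (pol Q v).ker (pol Q w).ker
      have h3 := Submodule.finrank_le ((pol Q v).ker ⊔ (pol Q w).ker)
      have h4 : finrank k V ≤ finrank k (pol Q w).ker + 1 := by
        have h1 := (pol Q w).finrank_range_add_finrank_ker
        have h2 : finrank k (LinearMap.range (pol Q w)) ≤ 1 :=
          (Submodule.finrank_le _).trans (by rw [finrank_self])
        omega
      rw [h0, finrank_bot] at h1
      omega
    have hvw : polar Q v w = 0 := hw
    have hvx : polar Q v x = 0 := hxv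
    have hwx : polar Q w x = 0 := hxw
    obtain ⟨a, b, hab⟩ := FiniteField.exists_root_sum_quadratic
      (f := Polynomial.C (Q v) * Polynomial.X ^ 2) (g := Polynomial.C (Q w) * Polynomial.X ^ 2 + Polynomial.C (Q x))
      (by compute_degree!) (by compute_degree!)
      (Nat.odd_iff.1 ((Nat.even_or_odd _).resolve_left fun he => h2 (by
        have h2' : ringChar k = 2 := (FiniteField.even_card_iff_char_two).2 (Nat.even_iff.1 he)
        have : ((ringChar k : ℕ) : k) = 0 := ringChar.Nat.cast_ringChar
        rwa [h2', Nat.cast_ofNat] at this)))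
    refine ⟨a • v + b • w + x, fun h0 => hx0 ?_, ?_⟩
    · have e1 := congrArg (pol Q v) h0
      have e2 := congrArg (pol Q w) h0
      simp only [map_add, map_smul, map_zero, smul_eq_mul] at e1 e2
      change a * polar Q v v + b * polar Q v w + polar Q v x = 0 at e1
      change a * polar Q w v + b * polar Q w w + polar Q w x = 0 at e2
      rw [hvw, hvx, mul_zero, add_zero, add_zero] at e1
      rw [polar_comm Q w v, hvw, hwx, mul_zero, zero_add, add_zero] at e2
      obtain rfl := (mul_eq_zero.1 e1).resolve_right (hvv v hv0)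
      obtain rfl := (mul_eq_zero.1 e2).resolve_right (hvv w hQw)
      simpa using h0
    · simp only [QuadraticMap.map_add (⇑Q), polar_add_left, polar_smul_left, polar_smul_right, QuadraticMap.map_smul Q, hvw, hvx, hwx,
        smul_eq_mul, mul_zero, add_zero]
      simp only [Polynomial.eval_add, Polynomial.eval_mul, Polynomial.eval_C, Polynomial.eval_pow,
        Polynomial.eval_X] at hab
      linear_combination hab

theorem natCard_mul_eq_zero : Nat.card {p : k × k // p.1 * p.2 = 0} + 1 = 2 * Nat.card k := by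
  classical
  haveI := Fintype.ofFinite k
  rw [Nat.card_eq_fintype_card, Nat.card_eq_fintype_card, Fintype.card_subtype]
  have h : (Finset.univ.filter fun p : k × k => p.1 * p.2 = 0) =
      ({0} : Finset k) ×ˢ Finset.univ ∪ Finset.univ ×ˢ ({0} : Finset k) := by
    ext ⟨a, b⟩
    simp [eq_comm]
  have hi : ({0} : Finset k) ×ˢ Finset.univ ∩ Finset.univ ×ˢ ({0} : Finset k) = {((0 : k), (0 : k))} := by
    ext ⟨a, b⟩
    simp [eq_comm]
  have h1 := Finset.card_union_add_card_inter (({0} : Finset k) ×ˢ Finset.univ) (Finset.univ ×ˢ ({0} : Finset k))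
  rw [← h, hi, Finset.card_singleton, Finset.card_product, Finset.card_product, Finset.card_singleton,
    Finset.card_univ, one_mul, mul_one] at h1
  omega

theorem natCard_mul_eq {c : k} (hc : c ≠ 0) : Nat.card {p : k × k // p.1 * p.2 = c} + 1 = Nat.card k := by
  classical
  haveI := Fintype.ofFinite k
  have e : {p : k × k // p.1 * p.2 = c} ≃ kˣ :=
    { toFun := fun p => Units.mk0 p.1.1 fun h => hc (by rw [← p.2, h, zero_mul])
      invFun := fun a => ⟨((a : k), c / a), mul_div_cancel₀ c a.ne_zero⟩
      left_inv := fun p => by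
        have hp : p.1.1 ≠ 0 := fun h => hc (by rw [← p.2, h, zero_mul])
        refine Subtype.ext (Prod.ext rfl ?_)
        simp only [Units.val_mk0]
        rw [div_eq_iff hp, mul_comm]
        exact p.2.symm
      right_inv := fun a => Units.ext rfl }
  rw [Nat.card_congr e, Nat.card_eq_fintype_card, Nat.card_eq_fintype_card, Fintype.card_units]
  have := Fintype.card_pos (α := k)
  omega

theorem exists_split (hQ : Nondeg Q) {e : V} (he : e ≠ 0) (he0 : Q e = 0) :
    ∃ W : Submodule k V, finrank k W + 2 = finrank k V ∧ Nondeg (Q.comp W.subtype) ∧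
      (numZeros Q : ℤ) = Nat.card k * numZeros (Q.comp W.subtype) + (Nat.card k - 1) * (Nat.card k : ℤ) ^ finrank k W ∧
      (∀ r, Split (Q.comp W.subtype) r → Split Q (r + 1)) ∧
      (∀ r, (∃ U : Submodule k V, finrank k U = r + 1 ∧ e ∈ U ∧ ∀ u ∈ U, Q u = 0) → Split (Q.comp W.subtype) r) := by
  classical
  obtain ⟨w0, hw0⟩ : ∃ w, polar Q e w ≠ 0 := by
    by_contra h
    push Not at h
    exact he (hQ e h he0)
  obtain ⟨f0, hf0⟩ : ∃ f0, polar Q e f0 = 1 :=
    ⟨(polar Q e w0)⁻¹ • w0, by rw [polar_smul_right, smul_eq_mul, inv_mul_cancel₀ hw0]⟩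
  have hee : polar Q e e = 0 := by rw [polar_self, he0, smul_zero]
  let f := f0 - Q f0 • e
  have hef : polar Q e f = 1 := by
    rw [polar_sub_right, polar_smul_right Q (Q f0) e e, hee, smul_zero, sub_zero, hf0]
  have hQf : Q f = 0 := by
    change Q (f0 - Q f0 • e) = 0
    rw [sub_eq_add_neg, ← neg_smul, QuadraticMap.map_add (⇑Q), QuadraticMap.map_smul Q, he0, smul_zero, add_zero, polar_smul_right,
      polar_comm, hf0, smul_eq_mul, mul_one]
    ring
  have hff : polar Q f f = 0 := by rw [polar_self, hQf, smul_zero]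
  let W := (pol Q e).ker ⊓ (pol Q f).ker
  have hW : ∀ w : W, polar Q e w = 0 ∧ polar Q f w = 0 := fun w => w.2
  let Φ : (k × k) × W →ₗ[k] V :=
    LinearMap.coprod (LinearMap.coprod (LinearMap.toSpanSingleton k V e) (LinearMap.toSpanSingleton k V f)) W.subtype
  have hΦ : ∀ a b w, Φ ((a, b), w) = a • e + b • f + (w : V) := fun a b w => rfl
  have hproj : ∀ v, v - polar Q f v • e - polar Q e v • f ∈ W := fun v => by
    refine ⟨?_, ?_⟩ <;> change polar Q _ _ = 0 <;>
      simp [polar_sub_right, polar_smul_right, hee, hef, hff, polar_comm Q f e]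
  have hΦb : Function.Bijective Φ := by
    constructor
    · rw [← LinearMap.ker_eq_bot, Submodule.eq_bot_iff]
      rintro ⟨⟨a, b⟩, w⟩ h
      rw [LinearMap.mem_ker, hΦ] at h
      have h1 := congrArg (polar Q e) h
      have h2 := congrArg (polar Q f) h
      simp [polar_add_right, polar_smul_right, hee, hef, hff, polar_comm Q f e, (hW w).1, (hW w).2,
        polar_zero_right] at h1 h2
      subst h1 h2
      simpa using h
    · intro v
      refine ⟨((polar Q f v, polar Q e v), ⟨_, hproj v⟩), ?_⟩
      rw [hΦ]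
      simp
  let E := LinearEquiv.ofBijective Φ hΦb
  have hQΦ : ∀ a b (w : W), Q (Φ ((a, b), w)) = a * b + Q w := fun a b w => by
    rw [hΦ, QuadraticMap.map_add (⇑Q), QuadraticMap.map_add (⇑Q), QuadraticMap.map_smul Q, QuadraticMap.map_smul Q, he0, hQf, polar_add_left, polar_smul_left,
      polar_smul_left, polar_smul_left, polar_smul_right, hef, (hW w).1, (hW w).2]
    simp
  refine ⟨W, ?_, ?_, ?_, ?_, ?_⟩
  · rw [← E.finrank_eq, finrank_prod, finrank_prod, finrank_self]
    omega
  · intro w hw hw0
    refine Subtype.ext (hQ w (fun v => ?_) hw0)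
    obtain ⟨⟨⟨a, b⟩, w'⟩, rfl⟩ := hΦb.2 v
    have h3 : polar Q (w : V) w' = 0 := hw w'
    rw [hΦ, polar_add_right, polar_add_right, polar_smul_right, polar_smul_right, polar_comm Q (w : V) e,
      (hW w).1, polar_comm Q (w : V) f, (hW w).2, h3]
    simp
  · haveI : Finite V := Module.finite_of_finite k
    haveI := Fintype.ofFinite W
    have e1 : {v : V // Q v = 0} ≃ Σ w : W, {p : k × k // p.1 * p.2 = -Q w} :=
      ((E.symm.toEquiv.trans (Equiv.prodComm _ _)).subtypeEquiv fun v => by
        obtain ⟨⟨⟨a, b⟩, w⟩, rfl⟩ := hΦb.2 v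
        change Q (E ((a, b), w)) = 0 ↔ (fun q : W × k × k => q.2.1 * q.2.2 = -Q q.1) _
        simp only [Equiv.trans_apply, LinearEquiv.coe_toEquiv, Equiv.prodComm_apply]
        rw [show E.symm (Φ ((a, b), w)) = ((a, b), w) from E.symm_apply_apply _,
          show E ((a, b), w) = Φ ((a, b), w) from rfl, hQΦ, add_eq_zero_iff_eq_neg]
        rfl).trans
        (Equiv.subtypeProdEquivSigmaSubtype fun (w : W) (p : k × k) => p.1 * p.2 = -Q w)
    have h1 : (numZeros Q : ℤ) = ∑ w : W, ((Nat.card k : ℤ) - 1 + if Q (w : V) = 0 then (Nat.card k : ℤ) else 0) := by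
      rw [numZeros, Nat.card_congr e1, Nat.card_sigma, Nat.cast_sum]
      refine Finset.sum_congr rfl fun w _ => ?_
      split_ifs with h
      · have := natCard_mul_eq_zero (k := k)
        rw [h, neg_zero]
        omega
      · have := natCard_mul_eq (neg_ne_zero.2 h)
        omega
    rw [h1, Finset.sum_add_distrib, Finset.sum_const, Finset.card_univ, ← Finset.sum_filter, Finset.sum_const,
      ← Nat.card_eq_fintype_card, Module.natCard_eq_pow_finrank (K := k), numZeros, Nat.card_eq_fintype_card (α := {w : W // _}),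
      Fintype.card_subtype]
    simp only [nsmul_eq_mul, Nat.cast_pow, QuadraticMap.comp_apply, Submodule.coe_subtype]
    ring
  · rintro r ⟨U, hU, hU0⟩
    let g : k × U →ₗ[k] V := Φ ∘ₗ LinearMap.prodMap (LinearMap.inl k k k) U.subtype
    have hg : Function.Injective g :=
      hΦb.1.comp (Function.Injective.prodMap (f := fun a : k => ((a, 0) : k × k))
        (fun x y h => congrArg Prod.fst h) Subtype.val_injective)
    refine ⟨LinearMap.range g, ?_, ?_⟩
    · rw [LinearMap.finrank_range_of_inj hg, finrank_prod, finrank_self, hU, add_comm]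
    · rintro _ ⟨⟨a, w⟩, rfl⟩
      change Q (Φ ((a, 0), (w : W))) = 0
      rw [hQΦ, mul_zero, zero_add]
      exact hU0 _ w.2
  · rintro r ⟨U, hU, heU, hU0⟩
    have hiso : ∀ u ∈ U, ∀ v ∈ U, polar Q u v = 0 := fun u hu v hv => by
      rw [polar, hU0 _ (U.add_mem hu hv), hU0 u hu, hU0 v hv, sub_zero, sub_zero]
    let π : V →ₗ[k] W := (LinearMap.snd k (k × k) W).comp E.symm.toLinearMap
    refine ⟨U.map π, ?_, ?_⟩
    · have h1 := (π.domRestrict U).finrank_range_add_finrank_ker
      rw [LinearMap.range_domRestrict, hU] at h1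
      have h2 : (π.domRestrict U).ker = Submodule.span k {(⟨e, heU⟩ : U)} := by
        refine le_antisymm (fun u hu => ?_) ?_
        · obtain ⟨⟨⟨a, b⟩, w⟩, hu'⟩ := hΦb.2 (u : V)
          have hw : w = 0 := by
            have : E.symm (u : V) = ((a, b), w) := by rw [← hu']; exact E.symm_apply_apply _
            simpa [LinearMap.domRestrict_apply, π, this] using hu
          subst hw
          have hb : b = 0 := by
            have h := hiso e heU _ u.2
            rw [← hu', hΦ] at h
            simpa [polar_add_right, polar_smul_right, hee, hef] using h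
          subst hb
          refine Submodule.mem_span_singleton.2 ⟨a, Subtype.ext ?_⟩
          rw [← hu', hΦ]
          simp
        · rw [Submodule.span_singleton_le_iff_mem, LinearMap.mem_ker, LinearMap.domRestrict_apply]
          have : E.symm e = (((1 : k), (0 : k)), (0 : W)) := by
            rw [LinearEquiv.symm_apply_eq]
            change e = Φ _
            rw [hΦ]
            simp
          simp [π, this]
      rw [h2, finrank_span_singleton (fun h => he (congrArg Subtype.val h))] at h1
      omega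
    · rintro _ ⟨u, hu, rfl⟩
      obtain ⟨⟨⟨a, b⟩, w⟩, rfl⟩ := hΦb.2 u
      have hb : b = 0 := by
        have h := hiso e heU _ hu
        rw [hΦ] at h
        simpa [polar_add_right, polar_smul_right, hee, hef, (hW w).1] using h
      have h := hU0 _ hu
      rw [hQΦ, hb, mul_zero, zero_add] at h
      have : π (Φ ((a, b), w)) = w := by
        change (E.symm (E ((a, b), w))).2 = w
        rw [LinearEquiv.symm_apply_apply]
      rw [QuadraticMap.comp_apply, this]
      exact h

end Groth.Agent.H23Quad

namespace Groth.Agent.H23Quad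

open Module QuadraticMap

variable {k : Type u} [Field k] [Finite k]

/-- The number of zeros of a non-degenerate quadratic form. -/
theorem count_main (m : ℕ) : ∀ {V : Type v} [AddCommGroup V] [Module k V] [FiniteDimensional k V]
    (Q : QuadraticMap k V k), Nondeg Q → finrank k V = m →
      (∀ r, m = 2 * r + 1 → (numZeros Q : ℤ) = (Nat.card k : ℤ) ^ (2 * r)) ∧
      (∀ r, m = 2 * r → ∃ ε : ℤ, (ε = 1 ∨ ε = -1) ∧
        (Nat.card k : ℤ) * numZeros Q =
          (Nat.card k : ℤ) ^ (2 * r) + ε * ((Nat.card k : ℤ) ^ (r + 1) - (Nat.card k : ℤ) ^ r) ∧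
        (ε = 1 ↔ Split Q r)) := by
  induction m using Nat.strong_induction_on with
  | _ m ih =>
    intro V _ _ _ Q hQ hm
    by_cases hiso : ∃ e : V, e ≠ 0 ∧ Q e = 0
    · have hchoose : ∃ e : V, e ≠ 0 ∧ Q e = 0 ∧ (∀ r, m = 2 * (r + 1) → Split Q (r + 1) →
          ∃ U : Submodule k V, finrank k U = r + 1 ∧ e ∈ U ∧ ∀ u ∈ U, Q u = 0) := by
        by_cases hs : ∃ r, m = 2 * (r + 1) ∧ Split Q (r + 1)
        · obtain ⟨r, hr, U, hU, hU0⟩ := hs
          obtain ⟨e, heU, he⟩ := (Submodule.ne_bot_iff U).1 fun h => by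
            rw [h, finrank_bot] at hU
            omega
          exact ⟨e, he, hU0 e heU, fun r' hr' _ => ⟨U, by omega, heU, hU0⟩⟩
        · obtain ⟨e, he, he0⟩ := hiso
          exact ⟨e, he, he0, fun r hr hs' => absurd ⟨r, hr, hs'⟩ hs⟩
      obtain ⟨e, he, he0, heU⟩ := hchoose
      obtain ⟨W, hW, hWQ, hN, hup, hdown⟩ := exists_split hQ he he0
      obtain ⟨ho, hev⟩ := ih (finrank k W) (by omega) (Q.comp W.subtype) hWQ rfl
      refine ⟨fun r hr => ?_, fun r hr => ?_⟩
      · obtain ⟨s, rfl⟩ := Nat.exists_eq_add_one_of_ne_zero (show r ≠ 0 by omega)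
        rw [hN, ho s (by omega), show finrank k W = 2 * s + 1 by omega]
        ring
      · obtain ⟨s, rfl⟩ := Nat.exists_eq_add_one_of_ne_zero (show r ≠ 0 by omega)
        obtain ⟨ε, hε, hc, hsp⟩ := hev s (by omega)
        refine ⟨ε, hε, ?_, ⟨fun h => hup s (hsp.1 h), fun h => hsp.2 (hdown s (heU s hr h))⟩⟩
        rw [hN, show finrank k W = 2 * s by omega]
        linear_combination (Nat.card k : ℤ) * hc
    · push Not at hiso
      have h1 : numZeros Q = 1 := eq_zero_of_unique fun v hv => by_contra fun h => hiso v h hv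
      have hm2 : m ≤ 2 := by
        by_contra h
        obtain ⟨e, he, he0⟩ := exists_isotropic (Q := Q) (by omega)
        exact hiso e he he0
      refine ⟨fun r hr => ?_, fun r hr => ?_⟩
      · rw [show r = 0 by omega, h1]
        simp
      · rcases (show r = 0 ∨ r = 1 by omega) with rfl | rfl
        · refine ⟨1, Or.inl rfl, by rw [h1]; ring, ⟨fun _ => ⟨⊥, finrank_bot k V, fun u hu => ?_⟩, fun _ => rfl⟩⟩
          rw [(Submodule.mem_bot k).1 hu, QuadraticMap.map_zero]
        · refine ⟨-1, Or.inr rfl, by rw [h1]; ring, ⟨fun h => absurd h (by norm_num), ?_⟩⟩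
          rintro ⟨U, hU, hU0⟩
          obtain ⟨u, hu, hu0⟩ := (Submodule.ne_bot_iff U).1 fun h => by
            rw [h, finrank_bot] at hU
            omega
          exact absurd (hU0 u hu) (hiso u hu0)

end Groth.Agent.H23Quad
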