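import Groth.Agent.H23Quad.Count
import Groth.Agent.H23Weier.Smooth
import Groth.Agent.H3CAlg.EtaEtale

/-!
# Smooth quadrics and their quadratic forms
-/

set_option autoImplicit false
set_option linter.style.haveILetI false
set_option backward.isDefEq.respectTransparency false

universe u

open CategoryTheory CategoryTheory.Limits AlgebraicGeometry LefPen MvPolynomial

namespace Groth.Agent.H23Quad

variable {k : Type u} [Field k] {r : ℕ}

theorem exists_terms (G : Form r k 2) :
    ∃ i j : (Fin (r + 1) →₀ ℕ) → Fin (r + 1), ∀ d ∈ G.1.support,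
      d = Finsupp.single (i d) 1 + Finsupp.single (j d) 1 := by
  have h : ∀ d : Fin (r + 1) →₀ ℕ, ∃ a b, d ∈ G.1.support → d = Finsupp.single a 1 + Finsupp.single b 1 := by
    intro d
    by_cases hd : d ∈ G.1.support
    · have hdeg : d.degree = 2 := by
        rw [Finsupp.degree_eq_weight_one]
        exact G.2 (mem_support_iff.1 hd)
      have hc : Multiset.card d.toMultiset = 2 := by
        rw [Finsupp.card_toMultiset]
        exact hdeg
      obtain ⟨a, b, hab⟩ := Multiset.card_eq_two.1 hc
      refine ⟨a, b, fun _ => ?_⟩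
      conv_lhs => rw [← Finsupp.toMultiset_toFinsupp d, hab]
      simp [Multiset.toFinsupp_add, ← Multiset.singleton_add, Multiset.toFinsupp_singleton]
    · exact ⟨0, 0, fun h => absurd h hd⟩
  choose i j hij using h
  exact ⟨i, j, hij⟩

theorem aeval_terms (G : Form r k 2) {i j : (Fin (r + 1) →₀ ℕ) → Fin (r + 1)}
    (h : ∀ d ∈ G.1.support, d = Finsupp.single (i d) 1 + Finsupp.single (j d) 1)
    {R : Type*} [CommRing R] [Algebra k R] (w : Fin (r + 1) → R) :
    aeval w G.1 = ∑ d ∈ G.1.support, algebraMap k R (coeff d G.1) * (w (i d) * w (j d)) := by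
  classical
  rw [aeval_def, eval₂_eq']
  refine Finset.sum_congr rfl fun d hd => ?_
  congr 1
  conv_lhs => rw [h d hd]
  simp only [Finsupp.add_apply, pow_add, Finset.prod_mul_distrib]
  congr 1 <;> simp [Finsupp.single_apply]

/-- The quadratic form of a quadric, with the expansion of its values at second order. -/
theorem exists_quadraticMap (G : Form r k 2) :
    ∃ Q : QuadraticMap k (Fin (r + 1) → k) k, (∀ v, eval v G.1 = Q v) ∧
      (∀ (R : Type u) [CommRing R] [Algebra k R] (e : R), e ^ 3 = 0 → ∀ v h c : Fin (r + 1) → k,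
        aeval (fun l => algebraMap k R (v l) + e * algebraMap k R (h l) + e ^ 2 * algebraMap k R (c l)) G.1 =
          algebraMap k R (Q v) + e * algebraMap k R (QuadraticMap.polar Q v h) +
            e ^ 2 * algebraMap k R (QuadraticMap.polar Q v c + Q h)) ∧
      ((∀ v, Q v = 0) → G.1 = 0) := by
  classical
  obtain ⟨i, j, hij⟩ := exists_terms G
  let Q : QuadraticMap k (Fin (r + 1) → k) k := ∑ d ∈ G.1.support,
    coeff d G.1 • QuadraticMap.linMulLin (LinearMap.proj (i d)) (LinearMap.proj (j d))
  have hQ : ∀ v, Q v = ∑ d ∈ G.1.support, coeff d G.1 * (v (i d) * v (j d)) := fun v => by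
    simp [Q, QuadraticMap.sum_apply]
  have hev : ∀ v, eval v G.1 = Q v := fun v => by
    have h1 := aeval_terms G hij v
    simp only [Algebra.algebraMap_self, RingHom.id_apply, aeval_eq_eval] at h1
    rw [hQ]
    exact h1
  have hpol : ∀ v w, QuadraticMap.polar Q v w =
      ∑ d ∈ G.1.support, coeff d G.1 * (v (i d) * w (j d) + w (i d) * v (j d)) := fun v w => by
    rw [QuadraticMap.polar, hQ, hQ, hQ, ← Finset.sum_sub_distrib, ← Finset.sum_sub_distrib]
    refine Finset.sum_congr rfl fun d _ => ?_
    simp only [Pi.add_apply]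
    ring
  refine ⟨Q, hev, fun R _ _ e he v h c => ?_, fun h0 => ?_⟩
  · rw [aeval_terms G hij, hQ, hpol, hpol, hQ, ← Finset.sum_add_distrib, map_sum, map_sum, map_sum,
      Finset.mul_sum, Finset.mul_sum, ← Finset.sum_add_distrib, ← Finset.sum_add_distrib]
    refine Finset.sum_congr rfl fun d _ => ?_
    simp only [map_mul, map_add]
    linear_combination (algebraMap k R (coeff d G.1) *
      (algebraMap k R (h (i d)) * algebraMap k R (c (j d)) + algebraMap k R (c (i d)) * algebraMap k R (h (j d)) +
        e * (algebraMap k R (c (i d)) * algebraMap k R (c (j d))))) * he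
  · ext d
    rw [coeff_zero]
    by_contra hd
    have hdm : d ∈ G.1.support := mem_support_iff.2 hd
    have hd2 := hij d hdm
    apply hd
    by_cases hab : i d = j d
    · have h1 := (hQ (Pi.single (i d) 1)).symm.trans (h0 _)
      rw [Finset.sum_eq_single_of_mem d hdm ?_] at h1
      · rw [← hab, Pi.single_eq_same, mul_one, mul_one] at h1
        exact h1
      · intro d' hd' hne
        by_cases h2 : i d' = i d
        · by_cases h3 : j d' = i d
          · exact absurd (by rw [hij d' hd', hd2, h2, h3, ← hab]) hne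
          · rw [Pi.single_eq_of_ne h3, mul_zero, mul_zero]
        · rw [Pi.single_eq_of_ne h2, zero_mul, mul_zero]
    · have h1 : QuadraticMap.polar Q (Pi.single (i d) (1 : k)) (Pi.single (j d) 1) = 0 := by
        simp [QuadraticMap.polar, h0]
      rw [hpol, Finset.sum_eq_single_of_mem d hdm ?_] at h1
      · simpa [Pi.single_eq_of_ne hab, Pi.single_eq_of_ne (Ne.symm hab)] using h1
      · intro d' hd' hne
        refine mul_eq_zero_of_right _ ?_
        by_cases h2 : i d' = i d
        · by_cases h3 : j d' = j d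
          · exact absurd (by rw [hij d' hd', hd2, h2, h3]) hne
          · simp [h2, Pi.single_eq_of_ne h3, Pi.single_eq_of_ne hab]
        · by_cases h3 : i d' = j d
          · by_cases h4 : j d' = i d
            · exact absurd ((hij d' hd').trans (by rw [h3, h4]; exact (add_comm _ _).trans hd2.symm)) hne
            · simp [h3, Pi.single_eq_of_ne h4, Pi.single_eq_of_ne (Ne.symm hab)]
          · simp [Pi.single_eq_of_ne h2, Pi.single_eq_of_ne h3]

theorem rel_dim_eq {σ : Type} [Fintype σ] {n : ℕ}
    (h : RingHom.Locally (RingHom.IsStandardSmoothOfRelativeDimension.{u, u} n)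
      (algebraMap k (MvPolynomial σ k))) : n = Fintype.card σ := by
  obtain ⟨s, hs, hP⟩ := h
  obtain ⟨t, ht, ht0⟩ : ∃ t ∈ s, t ≠ 0 := by
    by_contra hc
    push Not at hc
    have : Ideal.span s ≤ ⊥ := Ideal.span_le.2 fun t ht => hc t ht
    rw [hs] at this
    exact top_ne_bot (le_bot_iff.1 this)
  let S := Localization.Away t
  haveI : Nontrivial S := (IsLocalization.injective S (M := Submonoid.powers t)
    (powers_le_nonZeroDivisors_of_noZeroDivisors ht0)).nontrivial
  haveI : Algebra.IsStandardSmoothOfRelativeDimension n k S := by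
    have h1 := hP t ht
    rw [← IsScalarTower.algebraMap_eq] at h1
    exact (RingHom.isStandardSmoothOfRelativeDimension_algebraMap n).1 h1
  haveI : Algebra.IsStandardSmoothOfRelativeDimension (Fintype.card σ) k (MvPolynomial σ k) := by
    haveI := H3CAlg.EtaEtale.isStandardSmooth_mvPolynomial k (Fintype.card σ)
    exact Algebra.IsStandardSmoothOfRelativeDimension.of_algEquiv _ (renameEquiv k (Fintype.equivFin σ).symm)
  haveI : Algebra.IsStandardSmoothOfRelativeDimension 0 (MvPolynomial σ k) S :=
    (RingHom.isStandardSmoothOfRelativeDimension_algebraMap 0).1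
      (RingHom.IsStandardSmoothOfRelativeDimension.algebraMap_isLocalizationAway t)
  haveI : Algebra.IsStandardSmoothOfRelativeDimension (0 + Fintype.card σ) k S :=
    Algebra.IsStandardSmoothOfRelativeDimension.trans (n := Fintype.card σ) (m := 0) k (MvPolynomial σ k) S
  have h1 := Algebra.IsStandardSmoothOfRelativeDimension.rank_kaehlerDifferential (R := k) (S := S) n
  have h2 := Algebra.IsStandardSmoothOfRelativeDimension.rank_kaehlerDifferential (R := k) (S := S)
    (0 + Fintype.card σ)
  rw [zero_add] at h2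
  exact_mod_cast h1.symm.trans h2

/-- The chart ring of a hypersurface smooth of given relative dimension. -/
theorem locally_chart {d n : ℕ} (G : Form r k d)
    [SmoothOfRelativeDimension n ((hypIdeal G).subschemeι ≫ CohB1.ProjSpace.toSpec r k)] (j : Fin (r + 1)) :
    RingHom.Locally (RingHom.IsStandardSmoothOfRelativeDimension.{u, u} n)
      (algebraMap k (MvPolynomial {l : Fin (r + 1) // l ≠ j} k ⧸
        Ideal.span {H11Proj.ProjSpace.dehom r k j G.1})) := by
  let U := H25Transversal.chartU r k j
  let I := hypIdeal G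
  have key : I.subschemeCover.f U ≫ (I.subschemeι ≫ CohB1.ProjSpace.toSpec r k) = Spec.map (CommRingCat.ofHom
      ((Ideal.Quotient.mk (I.ideal U)).comp
          ((Scheme.ΓSpecIso (CommRingCat.of k)).inv ≫
            (CohB1.ProjSpace.toSpec r k).appLE ⊤ U.1 (fun _ _ => trivial)).hom)) := by
    have e := IsAffineOpen.SpecMap_appLE_fromSpec (CohB1.ProjSpace.toSpec r k)
      (isAffineOpen_top (Spec (CommRingCat.of k))) U.2 (fun _ _ => trivial)
    rw [IsAffineOpen.fromSpec_top, Scheme.isoSpec_Spec_inv, ← Spec.map_comp] at e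
    have h0 := (Scheme.IdealSheafData.subschemeCover_map_subschemeι I U).trans
      (Scheme.IdealSheafData.glueDataObjι_ι I U)
    refine (Category.assoc _ _ _).symm.trans ?_
    refine (congrArg (· ≫ CohB1.ProjSpace.toSpec r k) h0).trans ?_
    refine (Category.assoc _ _ _).trans ?_
    exact (congrArg (Spec.map _ ≫ ·) e.symm).trans (Spec.map_comp _ _).symm
  haveI : IsOpenImmersion (I.subschemeCover.f U) := I.subschemeCover.map_prop U
  haveI : IsZariskiLocalAtSource (@SmoothOfRelativeDimension.{u} n) :=
    HasRingHomProperty.instIsZariskiLocalAtSource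
      (Q := RingHom.Locally (RingHom.IsStandardSmoothOfRelativeDimension n))
  have h1 : SmoothOfRelativeDimension n (Spec.map (CommRingCat.ofHom
      ((Ideal.Quotient.mk (I.ideal U)).comp
          ((Scheme.ΓSpecIso (CommRingCat.of k)).inv ≫
            (CohB1.ProjSpace.toSpec r k).appLE ⊤ U.1 (fun _ _ => trivial)).hom))) :=
    key ▸ IsZariskiLocalAtSource.comp (P := @SmoothOfRelativeDimension.{u} n) inferInstance (I.subschemeCover.f U)
  have h2 := (HasRingHomProperty.Spec_iff (P := @SmoothOfRelativeDimension n)).mp h1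
  let e := H23Weier.chartEquiv k r j
  let g := H11Proj.ProjSpace.dehom r k j G.1
  have hI' : I.ideal U = (Ideal.span {g}).map (e : MvPolynomial _ k →+* _) := by
    rw [H25Transversal.hypIdeal_ideal_chart, Ideal.map_span, Set.image_singleton,
      ← H25Transversal.polyToSection_form]
    exact congrArg (fun z => Ideal.span {z}) (H23Weier.chartEquiv_dehom j G.1)
  have h3 := (RingHom.locally_respectsIso RingHom.isStandardSmoothOfRelativeDimension_respectsIso).1 _
    (Ideal.quotientEquiv (Ideal.span {g}) _ e hI').symm h2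
  refine Eq.mp (congrArg _ (RingHom.ext fun c => ?_)) h3
  refine (Ideal.quotientEquiv (Ideal.span {g}) _ e hI').injective ?_
  refine (RingEquiv.apply_symm_apply _ _).trans ?_
  change _ = Ideal.quotientEquiv _ _ e hI' (Ideal.Quotient.mk _ (C c))
  rw [Ideal.quotientEquiv_mk]
  exact congrArg _ (H23Weier.chartEquiv_C j c)

theorem aeval_dehom {R : Type u} [CommRing R] [Algebra k R] (j : Fin (r + 1)) (y : Fin (r + 1) → R) (hy : y j = 1)
    (F : MvPolynomial (Fin (r + 1)) k) :
    aeval (fun l : {l : Fin (r + 1) // l ≠ j} => y l.1) (H11Proj.ProjSpace.dehom r k j F) = aeval y F := by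
  induction F using MvPolynomial.induction_on with
  | C c => simp [H11Proj.ProjSpace.dehom]
  | add p q hp hq => simp [hp, hq]
  | mul_X p i hp =>
    rw [map_mul, map_mul, hp, map_mul, aeval_X]
    congr 1
    by_cases hi : i = j <;> simp [H11Proj.ProjSpace.dehom, hi, hy]

/-- A smooth quadric has no singular rational point. -/
theorem nondeg_of_smooth {n : ℕ} (G : Form (n + 1) k 2)
    [SmoothOfRelativeDimension n ((hypIdeal G).subschemeι ≫ CohB1.ProjSpace.toSpec (n + 1) k)]
    (Q : QuadraticMap k (Fin (n + 1 + 1) → k) k)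
    (hexp : ∀ (R : Type u) [CommRing R] [Algebra k R] (e : R), e ^ 3 = 0 → ∀ v h c : Fin (n + 1 + 1) → k,
        aeval (fun l => algebraMap k R (v l) + e * algebraMap k R (h l) + e ^ 2 * algebraMap k R (c l)) G.1 =
          algebraMap k R (Q v) + e * algebraMap k R (QuadraticMap.polar Q v h) +
            e ^ 2 * algebraMap k R (QuadraticMap.polar Q v c + Q h))
    (hzero : (∀ v, Q v = 0) → G.1 = 0) : Nondeg Q := by
  intro v hv hv0
  by_contra hne
  obtain ⟨j, hj⟩ := Function.ne_iff.1 hne
  wlog hj1 : v j = 1 generalizing v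
  · refine this ((v j)⁻¹ • v) (fun w => ?_) ?_ ?_ ?_ ?_
    · rw [QuadraticMap.polar_smul_left, hv, smul_zero]
    · rw [QuadraticMap.map_smul, hv0, smul_zero]
    · exact smul_ne_zero (inv_ne_zero hj) hne
    · rw [Pi.smul_apply, smul_eq_mul, inv_mul_cancel₀ hj]
      exact one_ne_zero
    · rw [Pi.smul_apply, smul_eq_mul, inv_mul_cancel₀ hj]
  let σ := {l : Fin (n + 1 + 1) // l ≠ j}
  let g := H11Proj.ProjSpace.dehom (n + 1) k j G.1
  have hloc := locally_chart (n := n) G j
  by_cases hall : ∀ h, h j = 0 → Q h = 0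
  · have hG : G.1 = 0 := hzero fun x => by
      have hx : x = x j • v + (x - x j • v) := (add_sub_cancel _ _).symm
      rw [hx, QuadraticMap.map_add (⇑Q), QuadraticMap.map_smul, QuadraticMap.polar_smul_left, hv, hv0,
        hall _ (by simp [hj1])]
      simp
    let E : (MvPolynomial σ k ⧸ Ideal.span {g}) ≃ₐ[k] MvPolynomial σ k :=
      (Ideal.quotientEquivAlgOfEq k (by rw [show g = 0 by simp [g, hG], Ideal.span_singleton_eq_bot])).trans
        (AlgEquiv.quotientBot k (MvPolynomial σ k))
    have h := (RingHom.locally_respectsIso RingHom.isStandardSmoothOfRelativeDimension_respectsIso).1 _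
      E.toRingEquiv hloc
    have := rel_dim_eq (σ := σ) (n := n) (k := k) (Eq.mp (congrArg _ (RingHom.ext fun c => E.commutes c)) h)
    rw [Fintype.card_subtype_compl, Fintype.card_fin, Fintype.card_unique] at this
    omega
  · push Not at hall
    obtain ⟨h, hh0, hQh⟩ := hall
    haveI : Algebra.FormallySmooth k (MvPolynomial σ k ⧸ Ideal.span {g}) :=
      (H23Weier.smooth_chart G (SmoothOfRelativeDimension.smooth n _) j).formallySmooth
    let R := AdjoinRoot ((Polynomial.X : Polynomial k) ^ 3)
    let e : R := AdjoinRoot.root _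
    let J : Ideal R := Ideal.span {e ^ 2}
    have he3 : e ^ 3 = 0 := by
      rw [← AdjoinRoot.mk_self (f := (Polynomial.X : Polynomial k) ^ 3), map_pow, AdjoinRoot.mk_X]
    let y : Fin (n + 1 + 1) → R := fun l => algebraMap k R (v l) + e * algebraMap k R (h l)
    have hy : y j = 1 := by simp [y, hj1, hh0]
    let q : MvPolynomial σ k ⧸ Ideal.span {g} →ₐ[k] R ⧸ J :=
      Ideal.Quotient.liftₐ _ ((Ideal.Quotient.mkₐ k J).comp (aeval fun l : σ => y l.1)) (by
        intro z hz
        obtain ⟨c, rfl⟩ := Ideal.mem_span_singleton'.1 hz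
        rw [map_mul]
        refine mul_eq_zero_of_right _ ?_
        rw [AlgHom.comp_apply, aeval_dehom j y hy, Ideal.Quotient.mkₐ_eq_mk, Ideal.Quotient.eq_zero_iff_mem]
        have hval := hexp R e he3 v h 0
        simp only [Pi.zero_apply, map_zero, mul_zero, add_zero] at hval
        rw [hval, hv0, hv, map_zero, mul_zero, add_zero, zero_add]
        exact Ideal.mul_mem_right _ _ (Ideal.mem_span_singleton_self _))
    have hJ : IsNilpotent J := ⟨2, by
      rw [Ideal.span_singleton_pow, show (e ^ 2) ^ 2 = e ^ 3 * e by ring, he3, zero_mul, Ideal.span_singleton_zero]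
      rfl⟩
    let φ := Algebra.FormallySmooth.lift J hJ q
    have hφ : ∀ l : σ, ∃ c : k, φ (Ideal.Quotient.mk _ (X l)) = y l.1 + e ^ 2 * algebraMap k R c := fun l => by
      have hm : φ (Ideal.Quotient.mk _ (X l)) - y l.1 ∈ J := by
        rw [← Ideal.Quotient.eq, Algebra.FormallySmooth.mk_lift]
        simp [q]
      obtain ⟨z, hz⟩ := Ideal.mem_span_singleton'.1 hm
      obtain ⟨P, rfl⟩ := AdjoinRoot.mk_surjective z
      refine ⟨P.coeff 0, ?_⟩
      rw [eq_add_of_sub_eq' hz.symm, ← Polynomial.X_mul_divX_add P, map_add, map_mul, AdjoinRoot.mk_X,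
        AdjoinRoot.mk_C, ← AdjoinRoot.algebraMap_eq, Polynomial.coeff_add, Polynomial.coeff_C_zero,
        Polynomial.coeff_X_mul_zero, zero_add]
      linear_combination (AdjoinRoot.mk _ P.divX) * he3
    choose c hc using hφ
    let c' : Fin (n + 1 + 1) → k := fun l => if hl : l = j then 0 else c ⟨l, hl⟩
    have hg : aeval (fun l => algebraMap k R (v l) + e * algebraMap k R (h l) + e ^ 2 * algebraMap k R (c' l)) G.1 =
        0 := by
      rw [← aeval_dehom j _ (by simp [hj1, hh0, c'])]
      have h2 : φ (Ideal.Quotient.mk _ g) = 0 := by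
        rw [Ideal.Quotient.eq_zero_iff_mem.2 (Ideal.mem_span_singleton_self g), map_zero]
      rw [show φ (Ideal.Quotient.mk _ g) = (φ.comp (Ideal.Quotient.mkₐ k _)) g from rfl,
        MvPolynomial.aeval_unique (φ.comp (Ideal.Quotient.mkₐ k _))] at h2
      refine Eq.trans (congrArg (fun w : σ → R => aeval w g) (funext fun l => ?_)) h2
      refine Eq.trans ?_ (hc l).symm
      simp [c', y, dif_neg l.2]
    rw [hexp R e he3, hv0, hv, hv, map_zero, mul_zero, zero_add, zero_add, zero_add] at hg
    refine hQh ?_
    rw [show e ^ 2 = AdjoinRoot.mk _ ((Polynomial.X : Polynomial k) ^ 2) by rw [map_pow, AdjoinRoot.mk_X],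
      AdjoinRoot.algebraMap_eq, ← AdjoinRoot.mk_C, ← map_mul, AdjoinRoot.mk_eq_zero,
      Polynomial.X_pow_dvd_iff] at hg
    simpa [Polynomial.coeff_X_pow] using hg 2 (by norm_num)

end Groth.Agent.H23Quad
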