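import Groth.Agent.H23Quad.Form
import Groth.Agent.H27Zeta.ProjPoints

/-!
# Rational points of hypersurfaces
-/

set_option autoImplicit false
set_option linter.style.haveILetI false
set_option backward.isDefEq.respectTransparency false

universe u

open CategoryTheory CategoryTheory.Limits AlgebraicGeometry LefPen MvPolynomial CohB1
open Groth.Agent.H27Zeta (coord chartPoint chartPoint_over chartPoint_mem_iff exists_chartPoint chartPoint_injective extZero)

namespace Groth.Agent.H23Quad

variable {k : Type u} [Field k] {r d : ℕ}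

theorem exists_psi (i : Fin (r + 1)) (v : {j : Fin (r + 1) // j ≠ i} → k) :
    ∃ ψ : Γ(ProjSpace r k, (H25Transversal.chartU r k i).1) ⟶ CommRingCat.of k,
      (chartPoint (k := k) i v = Spec.map ψ ≫ (H25Transversal.chartU r k i).2.fromSpec) ∧
      ∀ F, ψ (H25Transversal.polyToSection r k i F) = eval (coord i v) F := by
  let 𝒜 := CohB1.polyGrading r k
  let a2s := Proj.awayToSection 𝒜 (MvPolynomial.X i)
  haveI : IsIso a2s := inferInstanceAs (IsIso (Proj.basicOpenIsoAway _ _ (X_mem r k i) one_pos).hom)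
  have hU : IsAffineOpen (Proj.basicOpen 𝒜 (MvPolynomial.X i)) :=
    Proj.isAffineOpen_basicOpen _ _ (X_mem r k i) one_pos
  have h1 : Spec.map a2s ≫ Proj.awayι 𝒜 (MvPolynomial.X i) (X_mem r k i) one_pos = hU.fromSpec := by
    rw [← cancel_epi hU.isoSpec.hom, IsAffineOpen.fromSpec, Iso.hom_inv_id_assoc,
      IsAffineOpen.isoSpec_hom, ← Category.assoc]
    exact (Proj.basicOpenIsoSpec 𝒜 (MvPolynomial.X i) (X_mem r k i) one_pos).hom_inv_id_assoc _
  let φ : CommRingCat.of (HomogeneousLocalization.Away 𝒜 (MvPolynomial.X i)) ⟶ CommRingCat.of k :=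
    CommRingCat.ofHom ((MvPolynomial.eval₂Hom (algebraMap k k) v).comp (H11Proj.ProjSpace.chartInv r k i))
  refine ⟨inv a2s ≫ φ, ?_, fun F => ?_⟩
  · change Spec.map φ ≫ H27Zeta.chartι i = Spec.map (inv a2s ≫ φ) ≫ hU.fromSpec
    have e0 : Spec.map φ = Spec.map (inv a2s ≫ φ) ≫ Spec.map a2s := by
      rw [← Spec.map_comp, IsIso.hom_inv_id_assoc]
    exact ((congrArg (· ≫ Proj.awayι 𝒜 (MvPolynomial.X i) (X_mem r k i) one_pos) e0).trans
      (Category.assoc _ _ _)).trans (congrArg (Spec.map (inv a2s ≫ φ) ≫ ·) h1)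
  · change φ (inv a2s (a2s (H11Proj.awayProjHom 𝒜 (X_mem r k i) F))) = _
    rw [← ConcreteCategory.comp_apply a2s, IsIso.hom_inv_id, CategoryTheory.id_apply]
    change MvPolynomial.eval₂Hom (algebraMap k k) v (H11Proj.ProjSpace.chartInv r k i (H11Proj.awayProjHom _ _ F)) = _
    have h2 := RingHom.congr_fun (H11Proj.ProjSpace.chartInv_awayProjHom r k i) F
    rw [RingHom.comp_apply] at h2
    rw [h2]
    clear h2
    induction F using MvPolynomial.induction_on with
    | C c => simp [H11Proj.ProjSpace.dehom]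
    | add p q hp hq => rw [map_add, map_add, hp, hq, map_add]
    | mul_X p l hp =>
      rw [map_mul, map_mul, hp, map_mul, eval_X]
      congr 1
      by_cases hl : l = i <;> simp [H11Proj.ProjSpace.dehom, coord, hl]

theorem factors_iff (G : Form r k d) (i : Fin (r + 1)) (v : {j : Fin (r + 1) // j ≠ i} → k) :
    (∃ h, h ≫ (hypIdeal G).subschemeι = chartPoint (k := k) (k' := k) i v) ↔ eval (coord i v) G.1 = 0 := by
  obtain ⟨ψ, hψ, hev⟩ := exists_psi i v
  let U := H25Transversal.chartU r k i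
  let I := hypIdeal G
  have hgen : ψ (dehom G i) = eval (coord i v) G.1 := by
    rw [← H25Transversal.polyToSection_form]
    exact hev G.1
  have hideal : I.ideal U = Ideal.span {dehom G i} := H25Transversal.hypIdeal_ideal_chart G i
  constructor
  · rintro ⟨h, hh⟩
    rw [← hgen]
    have e : (⊤ : (Spec (CommRingCat.of k)).Opens) ≤ (Spec.map ψ ≫ U.2.fromSpec) ⁻¹ᵁ U.1 := fun x _ =>
      U.2.range_fromSpec.subset ⟨Spec.map ψ x, rfl⟩
    have h1 : (Spec.map ψ ≫ U.2.fromSpec).appLE U.1 ⊤ e = ψ ≫ (Scheme.ΓSpecIso (CommRingCat.of k)).inv := by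
      rw [Scheme.Hom.comp_appLE, IsAffineOpen.fromSpec_app_self, Category.assoc, Scheme.Hom.map_appLE,
        Scheme.ΓSpecIso_inv_naturality, Scheme.Hom.appTop, Scheme.Hom.app_eq_appLE]
      rfl
    have e' : (⊤ : (Spec (CommRingCat.of k)).Opens) ≤ (h ≫ I.subschemeι) ⁻¹ᵁ U.1 := by
      rw [hh, hψ]; exact e
    have h2 : (h ≫ I.subschemeι).appLE U.1 ⊤ e' (dehom G i) = 0 := by
      rw [Scheme.Hom.comp_appLE, ConcreteCategory.comp_apply]
      have hk : dehom G i ∈ RingHom.ker (I.subschemeι.app U.1).hom := by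
        rw [I.ker_subschemeι_app U, hideal]
        exact Ideal.mem_span_singleton_self _
      rw [show I.subschemeι.app U.1 (dehom G i) = 0 from hk, map_zero]
    have h3 : (Spec.map ψ ≫ U.2.fromSpec).appLE U.1 ⊤ e (dehom G i) = 0 := by
      simp only [← hψ, ← hh]
      exact h2
    rw [h1, ConcreteCategory.comp_apply] at h3
    exact (Scheme.ΓSpecIso (CommRingCat.of k)).commRingCatIsoToRingEquiv.symm.map_eq_zero_iff.1 h3
  · intro h0
    have hle : I.ideal U ≤ RingHom.ker ψ.hom := by
      rw [hideal, Ideal.span_singleton_le_iff_mem, RingHom.mem_ker]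
      exact hgen.trans h0
    refine ⟨Spec.map (CommRingCat.ofHom (Ideal.Quotient.lift (I.ideal U) ψ.hom fun a ha => hle ha)) ≫
      I.subschemeCover.f U, ?_⟩
    have hc := (Scheme.IdealSheafData.subschemeCover_map_subschemeι I U).trans
      (Scheme.IdealSheafData.glueDataObjι_ι I U)
    rw [Category.assoc, hψ]
    refine (congrArg (_ ≫ ·) hc).trans ?_
    refine (Category.assoc _ _ _).symm.trans (congrArg (· ≫ U.2.fromSpec) ?_)
    exact (Spec.map_comp _ _).symm.trans (congrArg Spec.map (CommRingCat.hom_ext (Ideal.Quotient.lift_comp_mk _ _ _)))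

theorem pointCount_hyp (G : Form r k d) :
    SgaExt.pointCount ((hypIdeal G).subschemeι ≫ ProjSpace.toSpec r k) k =
      Nat.card {p : Σ i : Fin (r + 1), {j : Fin (r + 1) // i < j} → k // eval (coord p.1 (extZero p.1 p.2)) G.1 = 0} := by
  let pt : ↥(Spec (CommRingCat.of k)) := IsLocalRing.closedPoint k
  let P := {p : Σ i : Fin (r + 1), {j : Fin (r + 1) // i < j} → k // eval (coord p.1 (extZero p.1 p.2)) G.1 = 0}
  have hbefore : ∀ (i : Fin (r + 1)) (w : {j : Fin (r + 1) // i < j} → k) (j : Fin (r + 1)), j < i →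
      coord i (extZero i w) j = 0 := fun i w j hj => by
    simp [coord, extZero, hj.ne, hj.not_gt]
  have hat : ∀ (i : Fin (r + 1)) (w : {j : Fin (r + 1) // i < j} → k), coord i (extZero i w) i ≠ 0 :=
    fun i w => by simp [coord]
  choose lft hlft using fun (p : P) => (factors_iff G p.1.1 (extZero p.1.1 p.1.2)).2 p.2
  let e : P → {g : Spec (CommRingCat.of k) ⟶ (hypIdeal G).subscheme //
      g ≫ (hypIdeal G).subschemeι ≫ ProjSpace.toSpec r k = Spec.map (CommRingCat.ofHom (algebraMap k k))} :=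
    fun p => ⟨lft p, by rw [← Category.assoc, hlft, chartPoint_over]⟩
  unfold SgaExt.pointCount
  refine (Nat.card_eq_of_bijective e ⟨?_, ?_⟩).symm
  · intro a b hab
    have h' := congrArg (fun g => g.1 ≫ (hypIdeal G).subschemeι) hab
    simp only [e, hlft] at h'
    obtain ⟨⟨i, w⟩, hp⟩ := a
    obtain ⟨⟨i', w'⟩, hp'⟩ := b
    have hle : i' ≤ i := by
      by_contra hlt
      exact (chartPoint_mem_iff i' i (extZero i' w') pt).mp
        (h' ▸ (chartPoint_mem_iff i i (extZero i w) pt).mpr (hat i w)) (hbefore _ _ _ (not_le.mp hlt))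
    have hge : i ≤ i' := by
      by_contra hlt
      exact (chartPoint_mem_iff i i' (extZero i w) pt).mp
        (h'.symm ▸ (chartPoint_mem_iff i' i' (extZero i' w') pt).mpr (hat i' w')) (hbefore _ _ _ (not_le.mp hlt))
    obtain rfl := le_antisymm hge hle
    congr 2
    funext l
    have := congrFun (chartPoint_injective i h') ⟨l.1, l.2.ne'⟩
    simpa [extZero, l.2] using this
  · rintro ⟨g, hg⟩
    classical
    let g' := g ≫ (hypIdeal G).subschemeι
    have hg' : g' ≫ ProjSpace.toSpec r k = Spec.map (CommRingCat.ofHom (algebraMap k k)) := by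
      rw [← hg]; exact Category.assoc _ _ _
    have hne : (Finset.univ.filter fun i => g' pt ∈ Proj.basicOpen (polyGrading r k) (X i)).Nonempty := by
      obtain ⟨i, hi⟩ := TopologicalSpace.Opens.mem_iSup.mp
        ((H11Proj.ProjSpace.iSup_basicOpen r k).ge (Set.mem_univ (g' pt)))
      exact ⟨i, Finset.mem_filter.mpr ⟨Finset.mem_univ _, hi⟩⟩
    obtain ⟨i, hi, hmin⟩ : ∃ i, g' pt ∈ Proj.basicOpen (polyGrading r k) (X i) ∧
        ∀ j, g' pt ∈ Proj.basicOpen (polyGrading r k) (X j) → i ≤ j :=
      ⟨_, (Finset.mem_filter.mp (Finset.min'_mem _ hne)).2, fun j hj =>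
        Finset.min'_le _ j (Finset.mem_filter.mpr ⟨Finset.mem_univ _, hj⟩)⟩
    obtain ⟨v, hv⟩ := exists_chartPoint i g' hg' pt hi
    have hz : ∀ j : {j : Fin (r + 1) // j ≠ i}, j.1 < i → v j = 0 := fun j hj => by
      by_contra hvj
      refine absurd (hmin j.1 (hv ▸ (chartPoint_mem_iff i j.1 v pt).mpr ?_)) (not_le.mpr hj)
      simpa [coord, j.2] using hvj
    have hext : extZero i (fun l => v ⟨l.1, l.2.ne'⟩) = v := funext fun j => by
      unfold extZero
      split_ifs with h
      · rfl
      · exact (hz j (lt_of_le_of_ne (not_lt.mp h) j.2)).symm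
    have hmem : eval (coord i (extZero i fun l => v ⟨l.1, l.2.ne'⟩)) G.1 = 0 :=
      (factors_iff G i _).1 ⟨g, by rw [hext]; exact hv⟩
    refine ⟨⟨⟨i, fun l => v ⟨l.1, l.2.ne'⟩⟩, hmem⟩, Subtype.ext ?_⟩
    rw [← cancel_mono (hypIdeal G).subschemeι]
    exact (hlft _).trans ((congrArg (chartPoint i) hext).trans hv.symm)

theorem card_zeros_eq [Finite k] (G : Form r k d) (hd : d ≠ 0) :
    Nat.card {v : Fin (r + 1) → k // eval v G.1 = 0} =
      (Nat.card k - 1) * SgaExt.pointCount ((hypIdeal G).subschemeι ≫ ProjSpace.toSpec r k) k + 1 := by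
  classical
  haveI := Fintype.ofFinite k
  rw [pointCount_hyp]
  let P := {p : Σ i : Fin (r + 1), {j : Fin (r + 1) // i < j} → k // eval (coord p.1 (extZero p.1 p.2)) G.1 = 0}
  have hhom : ∀ (c : k) (v : Fin (r + 1) → k), eval (c • v) G.1 = c ^ d * eval v G.1 := fun c v => by
    simp only [eval_eq', Finset.mul_sum]
    refine Finset.sum_congr rfl fun e he => ?_
    have hdeg : ∑ l, e l = d := by
      rw [← Finsupp.degree_eq_sum, Finsupp.degree_eq_weight_one]
      exact G.2 (mem_support_iff.1 he)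
    simp only [Pi.smul_apply, smul_eq_mul, mul_pow, Finset.prod_mul_distrib, Finset.prod_pow_eq_pow_sum, hdeg]
    ring
  let Φ : Option (kˣ × P) → {v : Fin (r + 1) → k // eval v G.1 = 0} := fun o => o.elim
    ⟨0, by simpa [hd] using hhom 0 0⟩
    fun cp => ⟨(cp.1 : k) • coord cp.2.1.1 (extZero cp.2.1.1 cp.2.1.2), by rw [hhom, cp.2.2, mul_zero]⟩
  have hbefore : ∀ (i : Fin (r + 1)) (w : {j : Fin (r + 1) // i < j} → k) (j : Fin (r + 1)), j < i →
      coord i (extZero i w) j = 0 := fun i w j hj => by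
    simp [coord, extZero, hj.ne, hj.not_gt]
  have hself : ∀ (i : Fin (r + 1)) (w : {j : Fin (r + 1) // i < j} → k), coord i (extZero i w) i = 1 :=
    fun i w => by simp [coord]
  have hne0 : ∀ cp : kˣ × P, (cp.1 : k) • coord cp.2.1.1 (extZero cp.2.1.1 cp.2.1.2) ≠ 0 := fun cp h => by
    have := congrFun h cp.2.1.1
    rw [Pi.smul_apply, hself, smul_eq_mul, mul_one] at this
    exact cp.1.ne_zero this
  have hΦ : Function.Bijective Φ := by
    constructor
    · rintro (_ | ⟨c, ⟨⟨i, w⟩, hp⟩⟩) (_ | ⟨c', ⟨⟨i', w'⟩, hp'⟩⟩) h <;> have h' := congrArg Subtype.val h <;>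
        simp only [Φ, Option.elim] at h'
      · rfl
      · exact absurd h'.symm (hne0 ⟨c', ⟨⟨i', w'⟩, hp'⟩⟩)
      · exact absurd h' (hne0 ⟨c, ⟨⟨i, w⟩, hp⟩⟩)
      · have hle : ¬ i < i' := fun hlt => by
          have := congrFun h' i
          rw [Pi.smul_apply, Pi.smul_apply, hself, hbefore i' w' i hlt, smul_zero, smul_eq_mul, mul_one] at this
          exact c.ne_zero this
        have hge : ¬ i' < i := fun hlt => by
          have := congrFun h' i'
          rw [Pi.smul_apply, Pi.smul_apply, hself, hbefore i w i' hlt, smul_zero, smul_eq_mul, mul_one] at this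
          exact c'.ne_zero this.symm
        obtain rfl := le_antisymm (not_lt.1 hge) (not_lt.1 hle)
        have hc : c = c' := by
          have := congrFun h' i
          rw [Pi.smul_apply, Pi.smul_apply, hself, hself, smul_eq_mul, mul_one, smul_eq_mul, mul_one] at this
          exact Units.ext this
        subst hc
        congr 4
        funext l
        have := mul_left_cancel₀ c.ne_zero (congrFun h' l.1)
        simpa [coord, extZero, l.2, l.2.ne'] using this
    · rintro ⟨v, hv⟩
      by_cases h0 : v = 0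
      · exact ⟨none, Subtype.ext h0.symm⟩
      have hne : (Finset.univ.filter fun i => v i ≠ 0).Nonempty := by
        obtain ⟨i, hi⟩ := Function.ne_iff.1 h0
        exact ⟨i, Finset.mem_filter.2 ⟨Finset.mem_univ _, hi⟩⟩
      let i := Finset.min' _ hne
      have hvi : v i ≠ 0 := (Finset.mem_filter.1 (Finset.min'_mem _ hne)).2
      have hlt : ∀ j, j < i → v j = 0 := fun j hj => by
        by_contra hj'
        exact absurd (Finset.min'_le _ j (Finset.mem_filter.2 ⟨Finset.mem_univ _, hj'⟩)) (not_le.2 hj)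
      let w : {j : Fin (r + 1) // i < j} → k := fun l => v l.1 / v i
      have he : (v i) • coord i (extZero i w) = v := funext fun l => by
        rcases lt_trichotomy l i with h | h | h
        · rw [Pi.smul_apply, hbefore i w l h, smul_zero, hlt l h]
        · rw [Pi.smul_apply, h, hself, smul_eq_mul, mul_one]
        · simp [coord, extZero, h, h.ne', w, mul_div_cancel₀ _ hvi]
      refine ⟨some ⟨Units.mk0 _ hvi, ⟨i, w⟩, ?_⟩, Subtype.ext he⟩
      have := hhom (v i) (coord i (extZero i w))
      rw [he, hv] at this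
      exact (mul_eq_zero.1 this.symm).resolve_left (pow_ne_zero _ hvi)
  rw [← Nat.card_eq_of_bijective Φ hΦ, Finite.card_option, Nat.card_prod, Nat.card_units]

end Groth.Agent.H23Quad
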