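import Groth.Agent.H23Quad.Form
import Mathlib

/-!
# Ordinary quadratic forms of even rank split étale locally
-/

set_option autoImplicit false
set_option linter.style.haveILetI false

universe u

open scoped Matrix
open QuadraticMap (polar)
open Polynomial

noncomputable section

namespace Groth.Agent.H23Quad

variable {ι : Type} [Fintype ι] [DecidableEq ι]

section field

variable {K : Type u} [Field K] {j : ℕ} {M : Matrix ι ι K} {e f : Fin j → ι → K}

theorem IsHyp.polar_proj_proj (h : IsHyp M e f) (x z : ι → K) :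
    polar (qf M) (proj M e f x) (proj M e f z) = polar (qf M) (proj M e f x) z := by
  conv_lhs => rw [show proj M e f z = z - ∑ a, polar (qf M) z (f a) • e a - ∑ a, polar (qf M) z (e a) • f a from rfl]
  rw [QuadraticMap.polar_sub_right, QuadraticMap.polar_sub_right, polar_sum_right, polar_sum_right]
  simp [QuadraticMap.polar_smul_right, QuadraticMap.polar_comm (qf M) (proj M e f x) (e _),
    QuadraticMap.polar_comm (qf M) (proj M e f x) (f _), h.polar_proj_e, h.polar_proj_f]

theorem IsHyp.exists_polar_ne_zero (hS : IsUnit (M + Mᵀ).det) (h : IsHyp M e f) {x : ι → K}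
    (hx : proj M e f x ≠ 0) : ∃ z, polar (qf M) (proj M e f x) (proj M e f z) ≠ 0 := by
  by_contra hcon
  push Not at hcon
  have h0 : proj M e f x ᵥ* (M + Mᵀ) = 0 := by
    funext i
    have h2 := (h.polar_proj_proj x (Pi.single i 1)).symm.trans (hcon _)
    rw [polar_qf, Matrix.dotProduct_mulVec, dotProduct_single, mul_one] at h2
    exact h2
  exact hx (Matrix.eq_zero_of_vecMul_eq_zero hS.ne_zero h0)

theorem exists_proj_notMem (hj : 2 * j + 1 < Fintype.card ι) (w : ι → K) :
    ∃ x, proj M e f x ∉ Submodule.span K {w} := by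
  by_contra hcon
  push Not at hcon
  let g : Fin j ⊕ Fin j ⊕ Unit → ι → K := Sum.elim e (Sum.elim f fun _ => w)
  have htop : (⊤ : Submodule K (ι → K)) ≤ Submodule.span K (Set.range g) := fun x _ => by
    have hx : x = proj M e f x + ∑ a, polar (qf M) x (f a) • e a + ∑ a, polar (qf M) x (e a) • f a := by
      rw [proj]; abel
    rw [hx]
    refine add_mem (add_mem ?_ ?_) ?_
    · exact Submodule.span_mono (Set.singleton_subset_iff.2 (show w ∈ Set.range g from ⟨.inr (.inr ()), rfl⟩)) (hcon x)
    · exact sum_mem fun a _ => Submodule.smul_mem _ _ (Submodule.subset_span ⟨.inl a, rfl⟩)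
    · exact sum_mem fun a _ => Submodule.smul_mem _ _ (Submodule.subset_span ⟨.inr (.inl a), rfl⟩)
  have h1 : Module.finrank K (Submodule.span K (Set.range g)) ≤ Fintype.card (Fin j ⊕ Fin j ⊕ Unit) :=
    finrank_range_le_card g
  rw [eq_top_iff.2 htop, finrank_top, Module.finrank_pi] at h1
  simp only [Fintype.card_sum, Fintype.card_fin, Fintype.card_unit] at h1
  omega

/-- Two vectors of the complement spanning a nondegenerate plane. -/
theorem IsHyp.exists_plane (hS : IsUnit (M + Mᵀ).det) (h : IsHyp M e f) (hj : 2 * j + 1 < Fintype.card ι) :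
    ∃ w v : ι → K, qf M (proj M e f w) ≠ 0 ∧
      polar (qf M) (proj M e f v) (proj M e f w) * polar (qf M) (proj M e f v) (proj M e f w) -
        4 * (qf M (proj M e f w) * qf M (proj M e f v)) ≠ 0 := by
  obtain ⟨w, hw⟩ := exists_proj_notMem (M := M) (e := e) (f := f) hj 0
  have hw0 : proj M e f w ≠ 0 := fun e0 => hw (by rw [e0]; exact zero_mem _)
  obtain ⟨v, hv⟩ := h.exists_polar_ne_zero hS hw0
  rw [QuadraticMap.polar_comm] at hv
  have hadd : ∀ a b : ι → K, proj M e f (a + b) = proj M e f a + proj M e f b := fun a b => by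
    simp [proj, QuadraticMap.polar_add_left, add_smul, Finset.sum_add_distrib]
    abel
  have hsmul : ∀ (c : K) (a : ι → K), proj M e f (c • a) = c • proj M e f a := fun c a => by
    simp [proj, QuadraticMap.polar_smul_left, smul_sub, Finset.smul_sum, mul_smul]
  let D := polar (qf M) (proj M e f v) (proj M e f w) * polar (qf M) (proj M e f v) (proj M e f w) -
        4 * (qf M (proj M e f w) * qf M (proj M e f v))
  by_cases hD : D ≠ 0
  · by_cases hW : qf M (proj M e f w) = 0
    · by_cases hV : qf M (proj M e f v) = 0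
      · refine ⟨w + v, v, ?_, ?_⟩
        · rw [hadd, QuadraticMap.map_add (⇑(qf M)), hW, hV, zero_add, zero_add, QuadraticMap.polar_comm]
          exact hv
        · rw [hadd, QuadraticMap.polar_add_right, QuadraticMap.polar_self, hV, smul_zero, add_zero, mul_zero, mul_zero,
            sub_zero]
          exact mul_ne_zero hv hv
      · refine ⟨v, w, hV, ?_⟩
        rw [QuadraticMap.polar_comm, mul_comm (qf M (proj M e f v))]
        exact hD
    · exact ⟨w, v, hW, hD⟩
  push Not at hD
  have h4 : (4 : K) * (qf M (proj M e f w) * qf M (proj M e f v)) ≠ 0 := fun e0 => by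
    have : polar (qf M) (proj M e f v) (proj M e f w) * polar (qf M) (proj M e f v) (proj M e f w) = 0 := by
      linear_combination hD + e0
    exact hv ((mul_self_eq_zero).1 this)
  have hW : qf M (proj M e f w) ≠ 0 := fun e0 => h4 (by rw [e0]; ring)
  have h2 : (2 : K) ≠ 0 := fun e0 => h4 (by linear_combination (2 * (qf M (proj M e f w) * qf M (proj M e f v))) * e0)
  obtain ⟨x, hx⟩ := exists_proj_notMem (M := M) (e := e) (f := f) hj (proj M e f w)
  let ort : (ι → K) → ι → K := fun z =>
    z - (polar (qf M) (proj M e f w) (proj M e f z) / (2 * qf M (proj M e f w))) • w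
  have hPort : ∀ z, proj M e f (ort z) = proj M e f z -
      (polar (qf M) (proj M e f w) (proj M e f z) / (2 * qf M (proj M e f w))) • proj M e f w := fun z => by
    show proj M e f (z - _ • w) = _
    rw [sub_eq_add_neg, ← neg_smul, hadd, hsmul, neg_smul, ← sub_eq_add_neg]
  have hort : ∀ z, polar (qf M) (proj M e f w) (proj M e f (ort z)) = 0 := fun z => by
    rw [hPort, QuadraticMap.polar_sub_right, QuadraticMap.polar_smul_right, QuadraticMap.polar_self]
    simp only [smul_eq_mul, nsmul_eq_mul, Nat.cast_ofNat]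
    field_simp
    ring
  have hu : proj M e f (ort x) ≠ 0 := fun e0 => by
    rw [hPort, sub_eq_zero] at e0
    exact hx (Submodule.mem_span_singleton.2 ⟨_, e0.symm⟩)
  obtain ⟨z, hz⟩ := h.exists_polar_ne_zero hS hu
  have hz' : polar (qf M) (proj M e f (ort x)) (proj M e f (ort z)) ≠ 0 := by
    rw [hPort z, QuadraticMap.polar_sub_right, QuadraticMap.polar_smul_right,
      QuadraticMap.polar_comm (qf M) _ (proj M e f w), hort, smul_zero, sub_zero]
    exact hz
  obtain ⟨u, hu0, hu1⟩ : ∃ u, polar (qf M) (proj M e f w) (proj M e f u) = 0 ∧ qf M (proj M e f u) ≠ 0 := by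
    by_contra hcon
    push Not at hcon
    have h3 := hcon (ort x + ort z) (by rw [hadd, QuadraticMap.polar_add_right, hort, hort, add_zero])
    rw [hadd, QuadraticMap.map_add (⇑(qf M)), hcon _ (hort x), hcon _ (hort z), zero_add, zero_add] at h3
    exact hz' h3
  refine ⟨w, u, hW, ?_⟩
  rw [QuadraticMap.polar_comm, hu0]
  have h22 : (4 : K) ≠ 0 := fun e0 => mul_ne_zero h2 h2 (by linear_combination e0)
  simpa using ⟨h22, hW, hu1⟩

end field

/-- One more hyperbolic pair over an étale neighbourhood. -/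
theorem exists_extend {B : Type u} [CommRing B] {j : ℕ} {M : Matrix ι ι B} {e f : Fin j → ι → B}
    (hS : IsUnit (M + Mᵀ).det) (h : IsHyp M e f) (hj : 2 * j + 1 < Fintype.card ι) (q : PrimeSpectrum B) :
    ∃ (B' : Type u) (_ : CommRing B') (_ : Algebra B B'), Algebra.Etale B B' ∧
      (∃ q' : PrimeSpectrum B', q'.asIdeal.comap (algebraMap B B') = q.asIdeal) ∧
      ∃ e' f' : Fin (j + 1) → ι → B', IsHyp (M.map (algebraMap B B')) e' f' := by
  classical
  haveI := q.isPrime
  let φ := algebraMap B q.asIdeal.ResidueField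
  have hS' : IsUnit (M.map φ + (M.map φ)ᵀ).det := by
    rw [show M.map φ + (M.map φ)ᵀ = (M + Mᵀ).map φ by ext; simp]
    show IsUnit (φ.mapMatrix (M + Mᵀ)).det
    rw [← RingHom.map_det]
    exact hS.map φ
  obtain ⟨w, v, hw, hD⟩ := (h.map φ).exists_plane hS' hj
  have hlift : ∀ x : ι → q.asIdeal.ResidueField, ∃ (c : q.asIdeal.ResidueField) (X : ι → B),
      c ≠ 0 ∧ φ ∘ X = c • x := fun x => by
    haveI : IsFractionRing (B ⧸ q.asIdeal) q.asIdeal.ResidueField := inferInstance
    obtain ⟨d, hd⟩ := IsLocalization.exist_integer_multiples_of_finite (nonZeroDivisors (B ⧸ q.asIdeal)) x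
    choose X₀ hX₀ using hd
    choose X hX using fun i => Ideal.Quotient.mk_surjective (X₀ i)
    refine ⟨algebraMap (B ⧸ q.asIdeal) q.asIdeal.ResidueField d,
      X, IsFractionRing.to_map_ne_zero_of_mem_nonZeroDivisors d.2, funext fun i => ?_⟩
    show algebraMap B q.asIdeal.ResidueField (X i) = _
    rw [IsScalarTower.algebraMap_apply B (B ⧸ q.asIdeal) q.asIdeal.ResidueField]
    show algebraMap (B ⧸ q.asIdeal) _ (Ideal.Quotient.mk _ (X i)) = _
    rw [hX, hX₀, Algebra.smul_def]
    rfl
  obtain ⟨cw, W₀, hcw, hW₀⟩ := hlift w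
  obtain ⟨cv, V₀, hcv, hV₀⟩ := hlift v
  let W := proj M e f W₀
  let V := proj M e f V₀
  let a := qf M W
  let b := polar (qf M) V W
  let c := qf M V
  have hsmul : ∀ (r : q.asIdeal.ResidueField) (z : ι → q.asIdeal.ResidueField),
      proj (M.map φ) (fun a => φ ∘ e a) (fun a => φ ∘ f a) (r • z) =
        r • proj (M.map φ) (fun a => φ ∘ e a) (fun a => φ ∘ f a) z := fun r z => by
    simp [proj, QuadraticMap.polar_smul_left, smul_sub, Finset.smul_sum, mul_smul]
  have hWφ : φ ∘ W = cw • proj (M.map φ) (fun a => φ ∘ e a) (fun a => φ ∘ f a) w := by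
    rw [proj_map, hW₀, hsmul]
  have hVφ : φ ∘ V = cv • proj (M.map φ) (fun a => φ ∘ e a) (fun a => φ ∘ f a) v := by
    rw [proj_map, hV₀, hsmul]
  have hh : φ (a * (b * b - 4 * (a * c))) ≠ 0 := by
    simp only [a, b, c, map_mul, map_sub, map_ofNat, ← qf_map, ← polar_map, hWφ, hVφ, QuadraticMap.map_smul,
      QuadraticMap.polar_smul_left, QuadraticMap.polar_smul_right, smul_eq_mul]
    refine mul_ne_zero (mul_ne_zero (mul_ne_zero hcw hcw) hw) fun e0 => ?_
    refine mul_ne_zero (mul_ne_zero (mul_ne_zero hcv hcw) (mul_ne_zero hcv hcw)) hD ?_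
    linear_combination e0
  let hbad := a * (b * b - 4 * (a * c))
  let ψ := algebraMap B (Localization.Away hbad)
  have hu : IsUnit (ψ a) ∧ IsUnit (ψ (b * b - 4 * (a * c))) := by
    have := IsLocalization.Away.algebraMap_isUnit (S := Localization.Away hbad) hbad
    rw [show algebraMap B (Localization.Away hbad) hbad = ψ a * ψ (b * b - 4 * (a * c)) from map_mul _ _ _] at this
    exact IsUnit.mul_iff.1 this
  obtain ⟨⟨α, hα⟩, ⟨δ, hδ⟩⟩ := hu
  let p : (Localization.Away hbad)[X] :=
    X ^ 2 + C (↑α⁻¹ * ψ b) * X + C (↑α⁻¹ * ψ c)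
  have hp : p.Monic := by
    simp only [p]
    monicity!
  let P : StandardEtalePair (Localization.Away hbad) :=
    { f := p, monic_f := hp, g := 1
      cond := ⟨C (↑δ⁻¹ * (↑α * ↑α)) * derivative p, C (-(4 * (↑δ⁻¹ * (↑α * ↑α)))), 0, by
        have hkey : (derivative p) * (derivative p) - 4 * p =
            C (↑α⁻¹ * ↑α⁻¹ * ↑δ : Localization.Away hbad) := by
          have he : (↑δ : Localization.Away hbad) = ψ b * ψ b - 4 * (↑α * ψ c) := by
            rw [hδ, hα]; simp [map_mul, map_sub, map_ofNat]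
          simp only [p, derivative_add, derivative_mul, derivative_C, derivative_X, derivative_X_pow, he]
          simp only [map_mul, map_sub, map_add, Nat.cast_ofNat, zero_mul, mul_one, zero_add, add_zero]
          have hαα : C (↑α : Localization.Away hbad) * C (↑α⁻¹ : Localization.Away hbad) = 1 := by
            rw [← map_mul, α.mul_inv, map_one]
          have h4 : (C (4 : Localization.Away hbad)) = 4 := map_ofNat _ _
          have h2 : (C (2 : Localization.Away hbad)) = 2 := map_ofNat _ _
          simp only [h4, h2]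
          linear_combination (4 * C (↑α⁻¹ : Localization.Away hbad) * C (ψ c)) * hαα
        have hone : (↑δ⁻¹ * (↑α * ↑α) * (↑α⁻¹ * ↑α⁻¹ * ↑δ) : Localization.Away hbad) = 1 := by
          rw [show (↑δ⁻¹ * (↑α * ↑α) * (↑α⁻¹ * ↑α⁻¹ * ↑δ) : Localization.Away hbad) =
            (↑δ⁻¹ * ↑δ) * ((↑α * ↑α⁻¹) * (↑α * ↑α⁻¹)) by ring, δ.inv_mul, α.mul_inv, one_mul, one_mul]
        have hc := congrArg (C : Localization.Away hbad →+* (Localization.Away hbad)[X]) hone
        simp only [map_mul, map_one] at hc hkey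
        simp only [pow_zero, map_neg, map_mul, map_ofNat]
        linear_combination (C (↑δ⁻¹ : Localization.Away hbad) * (C (↑α : Localization.Away hbad) *
          C (↑α : Localization.Away hbad))) * hkey + hc⟩ }
  letI : Algebra B P.Ring := ((algebraMap (Localization.Away hbad) P.Ring).comp ψ).toAlgebra
  haveI : IsScalarTower B (Localization.Away hbad) P.Ring := IsScalarTower.of_algebraMap_eq fun _ => rfl
  haveI : Algebra.Etale B (Localization.Away hbad) := Algebra.Etale.of_isLocalizationAway hbad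
  refine ⟨P.Ring, inferInstance, inferInstance, Algebra.Etale.comp B (Localization.Away hbad) P.Ring, ?_, ?_⟩
  · -- a point over `q`
    let Ω := AlgebraicClosure q.asIdeal.ResidueField
    let χ : Localization.Away hbad →+* Ω := IsLocalization.Away.lift hbad
      (g := (algebraMap q.asIdeal.ResidueField Ω).comp φ)
      ((Ne.isUnit hh).map (algebraMap q.asIdeal.ResidueField Ω))
    letI : Algebra (Localization.Away hbad) Ω := χ.toAlgebra
    haveI : Nontrivial (Localization.Away hbad) := χ.domain_nontrivial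
    have hdeg : (p.map (algebraMap (Localization.Away hbad) Ω)).degree ≠ 0 := by
      rw [hp.degree_map]
      have hd : p.degree = 2 := by
        simp only [p]
        compute_degree!
      rw [hd]
      simp
    obtain ⟨x, hx⟩ := IsAlgClosed.exists_root (p.map (algebraMap (Localization.Away hbad) Ω)) hdeg
    have hmap : P.HasMap x := ⟨by rwa [IsRoot, eval_map, ← aeval_def] at hx, by
      show IsUnit (aeval x (1 : (Localization.Away hbad)[X]))
      rw [map_one]
      exact isUnit_one⟩
    refine ⟨⟨RingHom.ker (P.lift x hmap), RingHom.ker_isPrime _⟩, ?_⟩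
    ext r
    show P.lift x hmap (algebraMap (Localization.Away hbad) P.Ring (ψ r)) = 0 ↔ _
    rw [AlgHom.commutes]
    show χ (ψ r) = 0 ↔ _
    rw [IsLocalization.Away.lift_eq, RingHom.comp_apply, map_eq_zero, Ideal.algebraMap_residueField_eq_zero]
  · -- the new pair
    let η := algebraMap B P.Ring
    have hη : ∀ r, η r = algebraMap (Localization.Away hbad) P.Ring (ψ r) := fun _ => rfl
    have hroot : qf (M.map η) (η ∘ W) * (P.X * P.X) + polar (qf (M.map η)) (η ∘ V) (η ∘ W) * P.X +
        qf (M.map η) (η ∘ V) = 0 := by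
      rw [qf_map, qf_map, polar_map]
      have h1 := P.hasMap_X.1
      change aeval P.X p = 0 at h1
      simp only [p, map_add, map_mul, aeval_C, aeval_X_pow, aeval_X] at h1
      have hαα : algebraMap (Localization.Away hbad) P.Ring (↑α) * algebraMap (Localization.Away hbad) P.Ring (↑α⁻¹) = 1 := by
        rw [← map_mul, α.mul_inv, map_one]
      rw [hη, hη, hη, ← hα]
      linear_combination (algebraMap (Localization.Away hbad) P.Ring (↑α)) * h1 -
        (algebraMap (Localization.Away hbad) P.Ring (ψ b) * P.X + algebraMap (Localization.Away hbad) P.Ring (ψ c)) * hαα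
    obtain ⟨β', hβ⟩ : ∃ β', (polar (qf (M.map η)) (η ∘ V) (η ∘ W) + 2 * (P.X * qf (M.map η) (η ∘ W))) * β' = 1 := by
      have hsq : (polar (qf (M.map η)) (η ∘ V) (η ∘ W) + 2 * (P.X * qf (M.map η) (η ∘ W))) ^ 2 =
          algebraMap (Localization.Away hbad) P.Ring ↑δ := by
        have h5 : algebraMap (Localization.Away hbad) P.Ring ↑δ =
            polar (qf (M.map η)) (η ∘ V) (η ∘ W) * polar (qf (M.map η)) (η ∘ V) (η ∘ W) -
              4 * (qf (M.map η) (η ∘ W) * qf (M.map η) (η ∘ V)) := by
          rw [qf_map, qf_map, polar_map, hδ]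
          simp only [a, b, c, η, RingHom.algebraMap_toAlgebra, RingHom.comp_apply, map_sub, map_mul, map_ofNat]
        rw [h5]
        linear_combination (4 * qf (M.map η) (η ∘ W)) * hroot
      exact ((isUnit_pow_iff two_ne_zero).1 (hsq ▸ δ.isUnit.map _)).exists_right_inv
    exact (h.map η).extend (η ∘ W) (η ∘ V) P.X β'
      (fun i => by rw [polar_map, h.polar_proj_e, map_zero]) (fun i => by rw [polar_map, h.polar_proj_f, map_zero])
      (fun i => by rw [polar_map, h.polar_proj_e, map_zero]) (fun i => by rw [polar_map, h.polar_proj_f, map_zero])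
      hroot hβ

/-- Hyperbolic families exist étale locally. -/
theorem exists_hyp {A : Type u} [CommRing A] (M : Matrix ι ι A) (hS : IsUnit (M + Mᵀ).det) (p : PrimeSpectrum A) :
    ∀ j : ℕ, 2 * j ≤ Fintype.card ι → ∃ (B : Type u) (_ : CommRing B) (_ : Algebra A B), Algebra.Etale A B ∧
      (∃ q : PrimeSpectrum B, q.asIdeal.comap (algebraMap A B) = p.asIdeal) ∧
      ∃ e f : Fin j → ι → B, IsHyp (M.map (algebraMap A B)) e f
  | 0, _ => ⟨A, inferInstance, inferInstance, inferInstance, ⟨p, by ext; rfl⟩, Fin.elim0, Fin.elim0,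
      ⟨fun a => a.elim0, fun a => a.elim0, fun a => a.elim0, fun a => a.elim0, fun a => a.elim0⟩⟩
  | j + 1, hj => by
    obtain ⟨B, _, _, hB, ⟨q, hq⟩, e, f, h⟩ := exists_hyp M hS p j (by omega)
    have hS' : IsUnit (M.map (algebraMap A B) + (M.map (algebraMap A B))ᵀ).det := by
      rw [show M.map (algebraMap A B) + (M.map (algebraMap A B))ᵀ = (M + Mᵀ).map (algebraMap A B) by ext; simp]
      show IsUnit ((algebraMap A B).mapMatrix (M + Mᵀ)).det
      rw [← RingHom.map_det]
      exact hS.map _
    obtain ⟨B', _, _, hB', ⟨q', hq'⟩, e', f', h'⟩ := exists_extend hS' h (by omega) q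
    letI : Algebra A B' := ((algebraMap B B').comp (algebraMap A B)).toAlgebra
    haveI : IsScalarTower A B B' := IsScalarTower.of_algebraMap_eq fun _ => rfl
    refine ⟨B', inferInstance, inferInstance, Algebra.Etale.comp A B B', ⟨q', ?_⟩, e', f', ?_⟩
    · rw [IsScalarTower.algebraMap_eq A B B', ← Ideal.comap_comap, hq', hq]
    · rw [show M.map (algebraMap A B') = (M.map (algebraMap A B)).map (algebraMap B B') by ext; rfl]
      exact h'

/-- Finitely many étale neighbourhoods suffice. -/
theorem exists_cover {A : Type u} [CommRing A] {m : ℕ} (M : Matrix (Fin m ⊕ Fin m) (Fin m ⊕ Fin m) A)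
    (hS : IsUnit (M + Mᵀ).det) :
    ∃ (n : ℕ) (B : Fin n → Type u) (_ : ∀ t, CommRing (B t)) (_ : ∀ t, Algebra A (B t)),
      (∀ t, Algebra.Etale A (B t)) ∧
      (∀ p : PrimeSpectrum A, ∃ (t : Fin n) (q : PrimeSpectrum (B t)),
        q.asIdeal.comap (algebraMap A (B t)) = p.asIdeal) ∧
      ∀ t, ∃ g : Matrix (Fin m ⊕ Fin m) (Fin m ⊕ Fin m) (B t), IsUnit g.det ∧
        ∀ x : Fin m ⊕ Fin m → B t, qf (M.map (algebraMap A (B t))) (g *ᵥ x) = ∑ j, x (Sum.inl j) * x (Sum.inr j) := by
  choose B hBr hBa hBe hq e f hef using fun p => exists_hyp M hS p m (by simp [two_mul])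
  let U : PrimeSpectrum A → Set (PrimeSpectrum A) := fun p => Set.range (PrimeSpectrum.comap (algebraMap A (B p)))
  have hU : ∀ p, IsOpen (U p) := fun p => by
    haveI := hBe p
    exact PrimeSpectrum.isOpenMap_comap_of_hasGoingDown_of_finitePresentation.isOpen_range
  obtain ⟨s, hs⟩ := isCompact_univ.elim_finite_subcover U hU fun p _ => by
    obtain ⟨q, hq⟩ := hq p
    exact Set.mem_iUnion.2 ⟨p, q, PrimeSpectrum.ext hq⟩
  refine ⟨s.card, fun t => B (s.equivFin.symm t), fun t => hBr _, fun t => hBa _, fun t => hBe _, fun p => ?_, fun t => ?_⟩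
  · obtain ⟨i, hi, q, hq⟩ := Set.mem_iUnion₂.1 (hs (Set.mem_univ p))
    refine ⟨s.equivFin ⟨i, hi⟩, ?_⟩
    have key : ∀ i' : PrimeSpectrum A, i' = i →
        ∃ q' : PrimeSpectrum (B i'), q'.asIdeal.comap (algebraMap A (B i')) = p.asIdeal := by
      rintro _ rfl
      exact ⟨q, congrArg PrimeSpectrum.asIdeal hq⟩
    exact key _ (congrArg Subtype.val (s.equivFin.symm_apply_apply ⟨i, hi⟩))
  · exact (hef _).exists_matrix

end Groth.Agent.H23Quad
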